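import Mathlib
import Groth.Agent.Lib.Helper5.DerSchTor.Vanish
import Groth.Agent.Lib.Helper5.KFlat.Symm

/-!
# A converse criterion for stalkwise tor amplitude relative to a base (helper5)

If for every module `N₀` over the local ring of the base there is a K-flat resolution `P` of an
`O_S`-module with stalk `N₀` such that `q^*P ⊗ G` is exact outside `[a, b]` at `y`, then `G` has
tor amplitude in `[a, b]` relative to `q` at `y`.
-/
set_option autoImplicit false
set_option linter.unusedSectionVars false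
set_option linter.unusedVariables false
set_option linter.style.haveILetI false
universe u
open CategoryTheory CategoryTheory.Limits MonoidalCategory AlgebraicGeometry
attribute [local instance] HasDerivedCategory.standard

namespace Groth.Agent.Lib.Helper5.RpushTor

open Groth.Agent.Lib.Helper5.StalkTot Groth.Agent.Lib.Helper5.StalkAdj
open Groth.Agent.Helper5.TorAmp Groth.Agent.Lib.Helper5.TensorAmp
open Groth.Agent.Lib.Helper5.KSixFlat Groth.Agent.Lib.Helper5.KFlatPull
open Groth.Agent.Lib.Helper5.KFlatStalk Groth.Agent.Lib.Helper5.LpullLib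
open Groth.Agent.Lib.Helper5.KFlatSiteQ Groth.Agent.Lib.Helper5.LTenAll
open Groth.Agent.Lib.Helper5.KSixLT Groth.Agent.Lib.Helper5.FlatTerms
open Groth.Agent.Lib.Helper5.DerSchTor
open Groth.Agent.Lib.Helper5.KProj Groth.Agent.Lib.Helper5.KFlat Groth.Agent.Lib.Helper5.DTenLib
open Groth.Agent.Lib.Helper5.NilTor
open DTen _root_.Helper5.Gen

section Ring

variable {A : Type u} [CommRing A]

/-- `TorVanF` can be tested on arbitrary K-flat resolutions of the modules -/
theorem torVanF_of_kflat_res (X : DRing.Cx A) (a b : ℤ)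
    (h : ∀ N : ModuleCat.{u} A, ∃ (F' : DRing.Cx A) (q : F' ⟶ S N), DRing.IsKFlat A F' ∧
      QuasiIso q ∧ ∀ i : ℤ, (i < a ∨ b < i) → IsZero ((F' ⊗ X).homology i)) :
    TorVanF a b X := by
  intro N i hi
  obtain ⟨F', q, hF', hq, hv⟩ := h N
  haveI : IsIso (DerivedCategory.Q.map q) :=
    (DerivedCategory.isIso_Q_map_iff_quasiIso _ q).2 hq
  obtain ⟨g, hg⟩ := exists_Q_map_eq (res (S N)) F'
    (DerivedCategory.Q.map (resMap (S N)) ≫ inv (DerivedCategory.Q.map q))
  have hgq : QuasiIso g := by
    rw [← DerivedCategory.isIso_Q_map_iff_quasiIso, hg]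
    infer_instance
  have h1 : QuasiIso (g ▷ X) :=
    quasiIso_whiskerRight_of_isKFlat g (isKFlat_res (S N)) hF' hgq X
  rw [isZero_homology_iff_of_quasiIso' _ h1 i]
  exact hv i hi

end Ring

variable {Y S : Scheme.{u}}

/-- **converse criterion**: stalkwise tor amplitude relative to `q` at `y` from the exactness at
`y` of `q^*P ⊗ G` for K-flat resolutions `P` of `O_S`-modules with arbitrary prescribed stalk -/
theorem hasTorAmplitudeAt_of_exact_tensor (q : Y ⟶ S) (Gc : CochainComplex Y.Modules ℤ) (y : Y)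
    (a b : ℤ)
    (h : ∀ N₀ : ModuleCat.{u} (S.presheaf.stalk (q.base y)),
      ∃ (M : S.Modules) (P : CochainComplex S.Modules ℤ)
        (p : P ⟶ (HomologicalComplex.single _ (ComplexShape.up ℤ) 0).obj M),
        DCoh.IsKFlat P ∧ QuasiIso p ∧ Nonempty ((stalkSh S (q.base y)).obj M ≅ N₀) ∧
        ∀ i : ℤ, (i < a ∨ b < i) →
          (stalkCx Y y ((DCoh.tensorCx.obj
            (((Scheme.Modules.pullback q).mapHomologicalComplex (ComplexShape.up ℤ)).obj P)).obj
              Gc)).ExactAt i) :
    DerSch.HasTorAmplitudeAt q a b Gc y := by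
  rw [hasTorAmplitudeAt_iff, hasTorAmplitudeIn_iff_torVanF]
  apply torVanF_of_kflat_res
  intro N₀
  obtain ⟨M, P, p, hP, hp, ⟨e⟩, hv⟩ := h N₀
  haveI : QuasiIso p := hp
  let F' := stalkCx S (q.base y) P
  have hF' : DRing.IsKFlat (S.presheaf.stalk (q.base y)) F' := isKFlat_stalkCx P hP (q.base y)
  let q1 : F' ⟶ KSixLT.S ((stalkSh S (q.base y)).obj M) :=
    ((stalkSh S (q.base y)).mapHomologicalComplex (ComplexShape.up ℤ)).map p ≫
      ((HomologicalComplex.singleMapHomologicalComplex (stalkSh S (q.base y))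
        (ComplexShape.up ℤ) 0).app M).hom
  have hq1 : QuasiIso q1 := by
    dsimp only [q1]
    infer_instance
  let q2 : KSixLT.S ((stalkSh S (q.base y)).obj M) ⟶ KSixLT.S N₀ :=
    (HomologicalComplex.single (ModuleCat.{u} (S.presheaf.stalk (q.base y)))
      (ComplexShape.up ℤ) 0).map e.hom
  haveI : IsIso q2 := Functor.map_isIso _ _
  let q' : F' ⟶ KSixLT.S N₀ := q1 ≫ q2
  have hq' : QuasiIso q' := by
    haveI := hq1
    dsimp only [q']
    infer_instance
  refine ⟨F', q', hF', hq', fun i hi => ?_⟩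
  let fP := ((Scheme.Modules.pullback q).mapHomologicalComplex (ComplexShape.up ℤ)).obj P
  have e3 : stalkCx Y y ((DCoh.tensorCx.obj fP).obj Gc) ≅
      (extCx (q.stalkMap y).hom).obj F' ⊗ stalkCx Y y Gc :=
    stalkTotIso Y y _ Gc ≪≫ whiskerRightIso (stalkCxPullbackIso q P y) (stalkCx Y y Gc)
  have h1 : ((extCx (q.stalkMap y).hom).obj F' ⊗ stalkCx Y y Gc).ExactAt i :=
    HomologicalComplex.ExactAt.of_iso (hv i hi) e3
  have h2 := exactAt_resCx (q.stalkMap y).hom _ i h1
  have h3 : (F' ⊗ (resCx (q.stalkMap y).hom).obj (stalkCx Y y Gc)).ExactAt i :=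
    HomologicalComplex.ExactAt.of_iso h2
      (asIso (pf (q.stalkMap y).hom F' (stalkCx Y y Gc))).symm
  exact (HomologicalComplex.exactAt_iff_isZero_homology _ _).1 h3

end Groth.Agent.Lib.Helper5.RpushTor
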