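import Mathlib
import Groth.Agent.Lib.Helper5.RpushPerf.TorVanish
import Groth.Agent.Lib.Helper5.Stalk.LpullComp

/-!
# Tor vanishing for `Rf_* F` relative to a base `S` (helper5)

For `f : X ⟶ Y` quasi-compact and quasi-separated, `q : Y ⟶ S`, and `F` of tor amplitude in
`[m, n]` relative to `f ≫ q`, the complex `q^*P ⊗ G` is exact outside `[m, N + n)` for every
K-flat resolution `P` (with flat terms) of a quasi-coherent `O_S`-module and every complex `G`
representing `Rf_* F`; here `N` depends only on `f`.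
-/
set_option autoImplicit false
set_option linter.unusedSectionVars false
set_option linter.unusedVariables false
set_option linter.style.haveILetI false
universe u
open CategoryTheory CategoryTheory.Limits AlgebraicGeometry
attribute [local instance] HasDerivedCategory.standard

namespace Groth.Agent.Lib.Helper5.RpushTor

open Groth.Agent.Lib.Helper5.LpullLib Groth.Agent.Lib.Helper5.LTenAll
  Groth.Agent.Lib.Helper5.KFlatPull Groth.Agent.Lib.Helper5.KFlatSiteQ
  Groth.Agent.Lib.Helper5.FlatTerms Groth.Agent.Lib.Helper5.QC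
  Groth.Agent.Lib.Helper5.RpushPerf

variable {X Y S : Scheme.{u}}

theorem exists_bound_tor_rel (f : X ⟶ Y) (q : Y ⟶ S) [QuasiCompact f] [QuasiSeparated f]
    [CompactSpace Y] [DCoh.HasRpush f] :
    ∃ N : ℤ, ∀ (F : CochainComplex X.Modules ℤ), DCoh.IsQCohD (DCoh.toD X F) → ∀ (m n : ℤ),
      DerSch.HasTorAmplitude (f ≫ q) m n F → ∀ (G : S.Modules), G.IsQuasicoherent →
      ∀ (P : CochainComplex S.Modules ℤ), KFT P → Nonempty (DCoh.toD S P ≅ DCoh.inD S G) →
      ∀ (Gc : CochainComplex Y.Modules ℤ),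
        Nonempty (DCoh.toD Y Gc ≅ (DCoh.Rpush f).obj (DCoh.toD X F)) →
      ∀ i : ℤ, (i < m ∨ N + n ≤ i) →
        ((DCoh.tensorCx.obj
          (((Scheme.Modules.pullback q).mapHomologicalComplex (ComplexShape.up ℤ)).obj P)).obj
            Gc).ExactAt i := by
  obtain ⟨N, hN⟩ := exists_bound_shift f
  refine ⟨N, fun F hFq m n htor G hG P hP ⟨eP⟩ Gc ⟨eG⟩ i hi => ?_⟩
  haveI := hG
  haveI : DCoh.HasLpull f := hasLpull f
  haveI : DCoh.HasLpull q := hasLpull q
  haveI : DCoh.HasLpull (f ≫ q) := hasLpull (f ≫ q)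
  let K : CochainComplex Y.Modules ℤ :=
    ((Scheme.Modules.pullback q).mapHomologicalComplex (ComplexShape.up ℤ)).obj P
  have hK : KFT K := ⟨isKFlat_pullback q P hP.1, fun j => isFlat_pullback q _ (hP.2 j)⟩
  haveI : DCoh.HasLTensorCx K := hasLTensorCx K
  let M' : CochainComplex X.Modules ℤ :=
    ((Scheme.Modules.pullback (f ≫ q)).mapHomologicalComplex (ComplexShape.up ℤ)).obj P
  haveI : DCoh.HasLTensorCx M' := hasLTensorCx M'
  have hGq : DCoh.IsQCohD (DCoh.inD S G) :=
    Groth.Agent.Lib.Helper5.RpushClassic.isQCohD_inD G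
  let eK : DCoh.toD Y K ≅ (DCoh.Lpull q).obj (DCoh.inD S G) :=
    (lpullObjIso q P hP).symm ≪≫ (DCoh.Lpull q).mapIso eP
  have hKq : DCoh.IsQCohD (DCoh.toD Y K) := isQCohD_of_iso eK.symm (isQCohD_Lpull q _ hGq)
  obtain ⟨ec⟩ := lpull_comp f q
  let eM : DCoh.toD X M' ≅ (DCoh.Lpull f).obj (DCoh.toD Y K) :=
    (lpullObjIso (f ≫ q) P hP).symm ≪≫ (ec.app (DCoh.toD S P)).symm ≪≫
      (DCoh.Lpull f).mapIso (lpullObjIso q P hP)
  obtain ⟨e2⟩ := Groth.Agent.Lib.Helper5.ProjF3.nonempty_projFormula_qcoh f (DCoh.toD X F) hFq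
    K hKq M' ⟨eM⟩
  have hLq : DCoh.IsQCohD ((DCoh.LTensorCx M').obj (DCoh.toD X F)) :=
    isQCohD_LTensorCx M' (isQCohD_of_iso eM.symm (isQCohD_Lpull f _ hKq)) _ hFq
  have hLz : ∀ j : ℤ, (j < m ∨ n < j) →
      IsZero (DCoh.HD ((DCoh.LTensorCx M').obj (DCoh.toD X F)) j) := fun j hj =>
    isZero_HD_ltensor_pull (f ≫ q) F m n htor P hP G eP j hj
  have hz : IsZero (DCoh.HD ((DCoh.LTensorCx K).obj ((DCoh.Rpush f).obj (DCoh.toD X F))) i) := by
    refine IsZero.of_iso ?_ ((DerivedCategory.homologyFunctor Y.Modules i).mapIso e2)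
    rcases hi with hi | hi
    · haveI : ((DCoh.LTensorCx M').obj (DCoh.toD X F)).IsGE m := by
        rw [DerivedCategory.isGE_iff]
        intro j hj
        exact hLz j (Or.inl hj)
      haveI := Groth.Agent.Lib.Helper5.RpushGE.rpush_isGE f
        ((DCoh.LTensorCx M').obj (DCoh.toD X F)) m
      exact DerivedCategory.isZero_of_isGE _ m i hi
    · have hle : ((DCoh.LTensorCx M').obj (DCoh.toD X F)).IsLE n := by
        rw [DerivedCategory.isLE_iff]
        intro j hj
        exact hLz j (Or.inr hj)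
      exact hN _ n hLq hle i hi
  let e5 : (DCoh.LTensorCx K).obj ((DCoh.Rpush f).obj (DCoh.toD X F)) ≅
      DerivedCategory.Q.obj ((DCoh.tensorCx.obj K).obj Gc) :=
    (DCoh.LTensorCx K).mapIso eG.symm ≪≫
      Groth.Agent.Lib.Helper5.LTenDer.ltensorObjIso K hK.1 Gc ≪≫
      DerivedCategory.Q.mapIso (Groth.Agent.Lib.Helper5.ProjF2.braidCx Gc K)
  have hz2 : IsZero ((DerivedCategory.homologyFunctor Y.Modules i).obj
      (DerivedCategory.Q.obj ((DCoh.tensorCx.obj K).obj Gc))) :=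
    IsZero.of_iso hz ((DerivedCategory.homologyFunctor Y.Modules i).mapIso e5.symm)
  rw [HomologicalComplex.exactAt_iff_isZero_homology]
  exact IsZero.of_iso hz2
    ((DerivedCategory.homologyFunctorFactors Y.Modules i).app _).symm

end Groth.Agent.Lib.Helper5.RpushTor
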