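import Mathlib
import Groth.Agent.Lib.Helper5.RpushTor.Conv
import Groth.Agent.Lib.Helper5.RpushTor.RelBound
import Groth.Agent.Lib.Helper5.TorQC.Counit
import Groth.Agent.Lib.Helper5.CohTen.Bound
import Groth.Agent.Lib.Helper5.RelTor.AffCrit
import Groth.Agent.Lib.Helper5.Stalk.RpushRes
import Groth.Agent.Lib.Helper5.Perf.HomVanish

/-!
# Stalkwise tor amplitude of `Rf_* F` relative to a base (helper5)
-/
set_option autoImplicit false
set_option linter.unusedSectionVars false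
set_option linter.unusedVariables false
set_option linter.style.haveILetI false
universe u
open CategoryTheory CategoryTheory.Limits AlgebraicGeometry
attribute [local instance] HasDerivedCategory.standard

namespace Groth.Agent.Lib.Helper5.RpushTor

open Groth.Agent.Lib.Helper5.StalkTot Groth.Agent.Lib.Helper5.StalkAdj
open Groth.Agent.Lib.Helper5.LpullLib Groth.Agent.Lib.Helper5.KFlatSiteQ
open Groth.Agent.Lib.Helper5.FlatTerms Groth.Agent.Lib.Helper5.QC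
open Groth.Agent.Lib.Helper5.DerSchTor Groth.Agent.Lib.Helper5.RelTor
open Groth.Agent.Lib.Helper5.RelPerfTen Groth.Agent.Lib.Helper5.LocNull
open Groth.Agent.Lib.Helper5.TildeStalk Groth.Agent.Lib.Helper5.TorQC
open Groth.Agent.Lib.Helper5.RpushRes Groth.Agent.Helper3.KInjDer

/-- **the case of an affine base `Spec R`**: stalkwise tor amplitude of `Rf_* F` relative to
`q : Y ⟶ Spec R` -/
theorem hasTorAmplitudeAt_rpush_spec {X Y : Scheme.{u}} (f : X ⟶ Y) [QuasiCompact f]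
    [QuasiSeparated f] [CompactSpace Y] [DCoh.HasRpush f] (R : CommRingCat.{u})
    (q : Y ⟶ Spec (CommRingCat.of R)) :
    ∃ N : ℤ, ∀ (F : CochainComplex X.Modules ℤ), DCoh.IsQCohD (DCoh.toD X F) → ∀ (m n : ℤ),
      DerSch.HasTorAmplitude (f ≫ q) m n F → ∀ (Gc : CochainComplex Y.Modules ℤ),
      Nonempty (DCoh.toD Y Gc ≅ (DCoh.Rpush f).obj (DCoh.toD X F)) →
      ∀ y : Y, DerSch.HasTorAmplitudeAt q m (N + n - 1) Gc y := by
  obtain ⟨N, hN⟩ := exists_bound_tor_rel f q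
  refine ⟨N, fun F hFq m n htor Gc hGc y => ?_⟩
  apply hasTorAmplitudeAt_of_exact_tensor q Gc y m (N + n - 1)
  intro N₀
  let M : (Spec (CommRingCat.of R)).Modules :=
    (tilde.functor R).obj ((ModuleCat.restrictScalars (phi R (q.base y))).obj N₀)
  let G0 : CochainComplex (Spec (CommRingCat.of R)).Modules ℤ :=
    (HomologicalComplex.single _ (ComplexShape.up ℤ) 0).obj M
  obtain ⟨P, p, hP1, hP2, hp, _⟩ : ∃ (P : CochainComplex (Spec (CommRingCat.of R)).Modules ℤ)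
      (p : P ⟶ G0), DCoh.IsKFlat P ∧
        (∀ n : ℤ, ModSite.IsFlat (O := (Spec (CommRingCat.of R)).sheaf) (P.X n)) ∧ QuasiIso p ∧
        ∀ n : ℤ, Epi (p.f n) :=
    exists_isKFlat_resolution (O := (Spec (CommRingCat.of R)).sheaf) G0
  haveI : QuasiIso p := hp
  refine ⟨M, P, p, hP1, hp, ⟨stalkTildeRestrictIso R (q.base y) N₀⟩, fun i hi => ?_⟩
  let eP : DCoh.toD _ P ≅ DCoh.inD _ M := asIso (DerivedCategory.Q.map p) ≪≫ toDSingleIso M
  have hMq : M.IsQuasicoherent := inferInstance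
  have h1 := hN F hFq m n htor M hMq P ⟨hP1, hP2⟩ ⟨eP⟩ Gc hGc i (by omega)
  exact Groth.Agent.Lib.Helper5.CohTen.exactAt_stalkCx _ i h1 y

/-- **local form over affine opens** `V ⊆ Y`, `W ⊆ S` with `q(V) ⊆ W` -/
theorem exists_torAmp_rpush_local {X Y S : Scheme.{u}} (f : X ⟶ Y) (q : Y ⟶ S) [QuasiCompact f]
    [QuasiSeparated f] [DCoh.HasRpush f] (V : Y.Opens) (hV : IsAffineOpen V) (W : S.Opens)
    (hW : IsAffineOpen W) (hVW : V ≤ q ⁻¹ᵁ W) :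
    ∃ N : ℤ, ∀ (F : CochainComplex X.Modules ℤ), DCoh.IsQCohD (DCoh.toD X F) → ∀ (a b : ℤ),
      (∀ x : X, x ∈ f ⁻¹ᵁ V → DerSch.HasTorAmplitudeAt (f ≫ q) a b F x) →
      ∀ (Gc : CochainComplex Y.Modules ℤ),
        Nonempty (DCoh.toD Y Gc ≅ (DCoh.Rpush f).obj (DCoh.toD X F)) →
      ∀ y : Y, y ∈ V → DerSch.HasTorAmplitudeAt q a (N + b - 1) Gc y := by
  haveI : IsAffine (V : Scheme.{u}) := hV
  haveI : DCoh.HasRpush (f ∣_ V) := hasRightDerivedFunctor (DCoh.pushKh (f ∣_ V))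
  let qV : (V : Scheme.{u}) ⟶ (W : Scheme.{u}) := q.resLE W V hVW
  let q' : (V : Scheme.{u}) ⟶ Spec (CommRingCat.of Γ(S, W)) := qV ≫ hW.isoSpec.hom
  let j : Spec (CommRingCat.of Γ(S, W)) ⟶ S := hW.isoSpec.inv ≫ W.ι
  haveI : IsOpenImmersion j := by dsimp only [j]; infer_instance
  have key2 : q' ≫ j = V.ι ≫ q := by
    dsimp only [q', j, qV]
    rw [Category.assoc, Iso.hom_inv_id_assoc, Scheme.Hom.resLE_comp_ι]
  have key : (f ⁻¹ᵁ V).ι ≫ f ≫ q = ((f ∣_ V) ≫ q') ≫ j := by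
    have h := morphismRestrict_ι f V
    calc (f ⁻¹ᵁ V).ι ≫ f ≫ q = ((f ⁻¹ᵁ V).ι ≫ f) ≫ q := (Category.assoc _ _ _).symm
      _ = ((f ∣_ V) ≫ V.ι) ≫ q := by rw [h]
      _ = (f ∣_ V) ≫ (q' ≫ j) := by rw [Category.assoc, key2]
      _ = ((f ∣_ V) ≫ q') ≫ j := (Category.assoc _ _ _).symm
  obtain ⟨N, hN⟩ := hasTorAmplitudeAt_rpush_spec (f ∣_ V) Γ(S, W) q'
  refine ⟨N, fun F hFq a b hF Gc ⟨eG⟩ y hy => ?_⟩
  let FU : CochainComplex ((f ⁻¹ᵁ V : X.Opens) : Scheme.{u}).Modules ℤ := (RCx (f ⁻¹ᵁ V).ι).obj F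
  let e0 : (DCoh.restrictD (f ⁻¹ᵁ V).ι).obj (DCoh.toD X F) ≅ DCoh.toD _ FU :=
    (Scheme.Modules.restrictFunctor (f ⁻¹ᵁ V).ι).mapDerivedCategoryFactors.app F
  have hFUq : DCoh.IsQCohD (DCoh.toD _ FU) :=
    isQCohD_of_iso e0 (Groth.Agent.Lib.Helper5.HomVanish.isQCohD_restrictJ (f ⁻¹ᵁ V).ι _ hFq)
  have htor : DerSch.HasTorAmplitude ((f ∣_ V) ≫ q') a b FU := by
    intro x'
    have h1 := hasTorAmplitudeAt_rcx (f ≫ q) (f ⁻¹ᵁ V).ι x' F a b (hF _ x'.2)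
    rw [key] at h1
    exact hasTorAmplitudeAt_of_comp_openImmersion ((f ∣_ V) ≫ q') j x' FU a b h1
  let GV : CochainComplex (V : Scheme.{u}).Modules ℤ := (RCx V.ι).obj Gc
  let e1 : (DCoh.restrictD V.ι).obj (DCoh.toD Y Gc) ≅ DCoh.toD _ GV :=
    (Scheme.Modules.restrictFunctor V.ι).mapDerivedCategoryFactors.app Gc
  let eGV : DCoh.toD _ GV ≅ (DCoh.Rpush (f ∣_ V)).obj (DCoh.toD _ FU) :=
    e1.symm ≪≫ (DCoh.restrictD V.ι).mapIso eG ≪≫ (rpushRestrictIso f V).app (DCoh.toD X F) ≪≫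
      (DCoh.Rpush (f ∣_ V)).mapIso e0
  have h2 := hN FU hFUq a b htor GV ⟨eGV⟩ ⟨y, hy⟩
  have h3 := hasTorAmplitudeAt_comp_openImmersion q' j ⟨y, hy⟩ GV a (N + b - 1) h2
  rw [key2] at h3
  exact hasTorAmplitudeAt_of_rcx q V.ι ⟨y, hy⟩ Gc a (N + b - 1) h3

end Groth.Agent.Lib.Helper5.RpushTor
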