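import Mathlib
import Groth.Agent.Lib.Helper5.ProperPush.Main

/-!
# Cohomological dimension of `Rf_*` on bounded complexes from the dimension on modules (helper5)
-/
set_option autoImplicit false
set_option linter.unusedSectionVars false
set_option linter.unusedVariables false
set_option linter.style.haveILetI false
universe u
open CategoryTheory CategoryTheory.Limits AlgebraicGeometry Opposite TopologicalSpace
open Pretriangulated DerivedCategory DerivedCategory.HomologySequence Triangulated

attribute [local instance] HasDerivedCategory.standard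

namespace Groth.Agent.Lib.Helper5.RpushTor

open Groth.Agent.Lib.Helper5.QC Groth.Agent.Lib.Helper5.MV

variable {X Y : Scheme.{u}} (f : X ⟶ Y)

theorem isZero_HD_rpush_of_isZero [DCoh.HasRpush f] (K : DCoh.D X) (hK : IsZero K) (i : ℤ) :
    IsZero (DCoh.HD ((DCoh.Rpush f).obj K) i) := by
  haveI : K.IsGE (i + 1) := by
    rw [DerivedCategory.isGE_iff]
    intro j _
    exact (DerivedCategory.homologyFunctor X.Modules j).map_isZero hK
  haveI := Groth.Agent.Lib.Helper5.RpushGE.rpush_isGE f K (i + 1)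
  exact DerivedCategory.isZero_of_isGE _ (i + 1) i (by omega)

/-- `Rf_*` of a module placed in degree `b` -/
theorem isZero_HD_rpush_single [DCoh.HasRpush f] (N : ℕ)
    (hN : ∀ M : X.Modules, Coh.IsQCoh M → ∀ i : ℤ, (N : ℤ) < i →
      IsZero (DCoh.HD ((DCoh.Rpush f).obj (DCoh.inD X M)) i))
    (b : ℤ) (M : X.Modules) (hM : Coh.IsQCoh M) (m : ℤ) (hm : (N : ℤ) + b < m) :
    IsZero (DCoh.HD ((DCoh.Rpush f).obj ((DerivedCategory.singleFunctor X.Modules b).obj M)) m) := by
  let e0 : (DCoh.inD X M)⟦-b⟧ ≅ (DerivedCategory.singleFunctor X.Modules b).obj M :=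
    ((DerivedCategory.singleFunctors X.Modules).shiftIso (-b) b 0 (by omega)).app M
  obtain ⟨e1⟩ := nonempty_rpush_shift_iso f (DCoh.inD X M) (-b)
  have h0 := hN M hM (-b + m) (by omega)
  exact IsZero.of_iso h0
    ((DerivedCategory.homologyFunctor Y.Modules m).mapIso ((DCoh.Rpush f).mapIso e0.symm ≪≫ e1) ≪≫
      hdShiftIso ((DCoh.Rpush f).obj (DCoh.inD X M)) (-b) m (-b + m) rfl)

/-- **way-out lemma**: if `R^i f_* M = 0` for `i > N` and all quasi-coherent `M`, then
`H^m(Rf_* E) = 0` for `m > N + d` whenever `E` is bounded, in `D_QCoh`, with `E ∈ D^{≤ d}` -/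
theorem isZero_HD_rpush_of_hN_aux [DCoh.HasRpush f] (N : ℕ)
    (hN : ∀ M : X.Modules, Coh.IsQCoh M → ∀ i : ℤ, (N : ℤ) < i →
      IsZero (DCoh.HD ((DCoh.Rpush f).obj (DCoh.inD X M)) i))
    (c : ℤ) (n : ℕ) :
    ∀ (E : DCoh.D X) [E.IsGE c] [E.IsLE (c + n - 1)], DCoh.IsQCohD E →
      ∀ m : ℤ, (N : ℤ) + (c + n - 1) < m → IsZero (DCoh.HD ((DCoh.Rpush f).obj E) m) := by
  induction n with
  | zero =>
    intro E _ _ _ m _
    exact isZero_HD_rpush_of_isZero f E ((TStructure.t).isZero E (c + (0 : ℕ) - 1) c (by simp)) m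
  | succ n ih =>
    intro E _ _ hE m hm
    let t : TStructure (DerivedCategory X.Modules) := TStructure.t
    let b : ℤ := c + n
    have hT := t.triangleLTGE_distinguished b E
    haveI hA1 : ((t.truncLT b).obj E).IsLE (c + n - 1) :=
      inferInstanceAs (t.IsLE ((t.truncLT b).obj E) (b - 1))
    haveI hA2 : ((t.truncLT b).obj E).IsGE c :=
      inferInstanceAs (t.IsGE ((t.truncLT b).obj E) c)
    haveI hB1 : ((t.truncGE b).obj E).IsGE b := inferInstanceAs (t.IsGE ((t.truncGE b).obj E) b)
    haveI hXb : t.IsLE E b :=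
      t.isLE_of_le E (c + (n + 1 : ℕ) - 1) b (by simp only [b]; push_cast; omega)
    haveI hB2 : ((t.truncGE b).obj E).IsLE b := inferInstanceAs (t.IsLE ((t.truncGE b).obj E) b)
    have hAq : DCoh.IsQCohD ((t.truncLT b).obj E) := by
      intro k
      by_cases hk : k < b
      · have : IsIso ((homologyFunctor X.Modules k).map ((t.truncLTι b).app E)) :=
          _root_.Helper5.TwoTerm.isIso_homologyMap_mor₁ _ hT (k - 1) k (by lia)
            (isZero_of_isGE ((t.truncGE b).obj E) b (k - 1) (by lia))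
            (isZero_of_isGE ((t.truncGE b).obj E) b k (by lia))
        haveI : (DCoh.HD E k).IsQuasicoherent := hE k
        have e' : DCoh.HD E k ≅ DCoh.HD ((t.truncLT b).obj E) k :=
          (asIso ((homologyFunctor X.Modules k).map ((t.truncLTι b).app E))).symm
        exact Groth.Agent.Helper1.QcAbel.isQuasicoherent_of_iso e'
      · exact Groth.Agent.Helper1.QcAbel.isQuasicoherent_of_isZero
          (isZero_of_isLE ((t.truncLT b).obj E) (b - 1) k (by lia))
    have h1 : IsZero (DCoh.HD ((DCoh.Rpush f).obj ((t.truncLT b).obj E)) m) :=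
      ih ((t.truncLT b).obj E) hAq m (by push_cast at hm; omega)
    have h3 : IsZero (DCoh.HD ((DCoh.Rpush f).obj ((t.truncGE b).obj E)) m) := by
      obtain ⟨Y', ⟨e⟩⟩ := exists_iso_singleFunctor_obj_of_isGE_of_isLE ((t.truncGE b).obj E) b
      have hA : ((t.truncLT b).obj E).IsLE (b - 1) :=
        inferInstanceAs (t.IsLE ((t.truncLT b).obj E) (b - 1))
      have : IsIso ((homologyFunctor X.Modules b).map ((t.truncGEπ b).app E)) :=
        _root_.Helper5.TwoTerm.isIso_homologyMap_mor₂ _ hT b (b + 1) rfl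
          (isZero_of_isLE ((t.truncLT b).obj E) (b - 1) b (by lia))
          (isZero_of_isLE ((t.truncLT b).obj E) (b - 1) (b + 1) (by lia))
      have hY : Coh.IsQCoh Y' := by
        haveI : (DCoh.HD E b).IsQuasicoherent := hE b
        have e' : DCoh.HD E b ≅ Y' :=
          asIso ((homologyFunctor X.Modules b).map ((t.truncGEπ b).app E)) ≪≫
            (DerivedCategory.homologyFunctor X.Modules b).mapIso e ≪≫
            (DerivedCategory.singleFunctorCompHomologyFunctorIso X.Modules b).app Y'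
        exact Groth.Agent.Helper1.QcAbel.isQuasicoherent_of_iso e'
      exact IsZero.of_iso
        (isZero_HD_rpush_single f N hN b Y' hY m (by simp only [b]; push_cast at hm; omega))
        ((DerivedCategory.homologyFunctor Y.Modules m).mapIso ((DCoh.Rpush f).mapIso e))
    obtain ⟨c', hc'⟩ := exists_distinguished_rpush f _ hT
    exact (exact₂ _ hc' m).isZero_of_both_zeros (h1.eq_of_src _ _) (h3.eq_of_tgt _ _)

/-- the way-out lemma with arbitrary bounds -/
theorem isZero_HD_rpush_of_hN [DCoh.HasRpush f] (N : ℕ)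
    (hN : ∀ M : X.Modules, Coh.IsQCoh M → ∀ i : ℤ, (N : ℤ) < i →
      IsZero (DCoh.HD ((DCoh.Rpush f).obj (DCoh.inD X M)) i))
    (E : DCoh.D X) (c d : ℤ) [E.IsGE c] [E.IsLE d] (hE : DCoh.IsQCohD E) (m : ℤ)
    (hm : (N : ℤ) + d < m) : IsZero (DCoh.HD ((DCoh.Rpush f).obj E) m) := by
  by_cases hcd : c ≤ d
  · obtain ⟨n, hn⟩ : ∃ n : ℕ, c + n - 1 = d := ⟨(d - c + 1).toNat, by omega⟩
    haveI : E.IsLE (c + n - 1) := by rw [hn]; infer_instance
    exact isZero_HD_rpush_of_hN_aux f N hN c n E hE m (by omega)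
  · exact isZero_HD_rpush_of_isZero f E ((TStructure.t).isZero E d c (by omega)) m

end Groth.Agent.Lib.Helper5.RpushTor
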