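import Mathlib
import Groth.Agent.Lib.Helper5.RpushTor.WayOut
import Groth.Agent.Lib.Helper5.RpushTor.Core
import Groth.Agent.Lib.Helper1.PushQc
import Groth.Agent.Lib.Helper5.Stalk.RpushSupp

/-!
# Tor amplitude of `Rf_* F` relative to a base, with an explicit bound on the cohomological
dimension of `f` (helper5)
-/
set_option autoImplicit false
set_option linter.unusedSectionVars false
set_option linter.unusedVariables false
set_option linter.style.haveILetI false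
universe u
open CategoryTheory CategoryTheory.Limits AlgebraicGeometry
attribute [local instance] HasDerivedCategory.standard

namespace Groth.Agent.Lib.Helper5.RpushTor

open Groth.Agent.Lib.Helper5.LpullLib Groth.Agent.Lib.Helper5.LTenAll
  Groth.Agent.Lib.Helper5.KFlatPull Groth.Agent.Lib.Helper5.KFlatSiteQ
  Groth.Agent.Lib.Helper5.FlatTerms Groth.Agent.Lib.Helper5.QC
  Groth.Agent.Lib.Helper5.RpushPerf
open Groth.Agent.Lib.Helper5.StalkTot Groth.Agent.Lib.Helper5.StalkAdj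
open Groth.Agent.Lib.Helper5.DerSchTor Groth.Agent.Lib.Helper5.RelTor
open Groth.Agent.Lib.Helper5.RelPerfTen Groth.Agent.Lib.Helper5.LocNull
open Groth.Agent.Lib.Helper5.TildeStalk Groth.Agent.Lib.Helper5.TorQC
open Groth.Agent.Lib.Helper5.RpushRes Groth.Agent.Helper3.KInjDer

variable {X Y S : Scheme.{u}}

/-- the bound hypothesis: `Rf_*` raises the top degree of bounded objects of `D_QCoh` by at most
`B` -/
def RpushBound (f : X ⟶ Y) [DCoh.HasRpush f] (B : ℤ) : Prop :=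
  ∀ (E : DCoh.D X) (c d : ℤ), E.IsGE c → E.IsLE d → DCoh.IsQCohD E → ∀ m : ℤ, B + d < m →
    IsZero (DCoh.HD ((DCoh.Rpush f).obj E) m)

theorem rpushBound_of_hN (f : X ⟶ Y) [DCoh.HasRpush f] (N : ℕ)
    (hN : ∀ M : X.Modules, Coh.IsQCoh M → ∀ i : ℤ, (N : ℤ) < i →
      IsZero (DCoh.HD ((DCoh.Rpush f).obj (DCoh.inD X M)) i)) : RpushBound f N :=
  fun E c d hc hd hE m hm => by
    haveI := hc
    haveI := hd
    exact isZero_HD_rpush_of_hN f N hN E c d hE m hm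

theorem tor_rel_of_bound (f : X ⟶ Y) (q : Y ⟶ S) [QuasiCompact f] [QuasiSeparated f]
    [DCoh.HasRpush f] (B : ℤ) (hB : RpushBound f B)
    (F : CochainComplex X.Modules ℤ) (hFq : DCoh.IsQCohD (DCoh.toD X F)) (m n : ℤ)
    (htor : DerSch.HasTorAmplitude (f ≫ q) m n F) (G : S.Modules) (hG : G.IsQuasicoherent)
    (P : CochainComplex S.Modules ℤ) (hP : KFT P) (heP : Nonempty (DCoh.toD S P ≅ DCoh.inD S G))
    (Gc : CochainComplex Y.Modules ℤ)
    (hGc : Nonempty (DCoh.toD Y Gc ≅ (DCoh.Rpush f).obj (DCoh.toD X F)))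
    (i : ℤ) (hi : i < m ∨ B + n < i) :
    ((DCoh.tensorCx.obj
      (((Scheme.Modules.pullback q).mapHomologicalComplex (ComplexShape.up ℤ)).obj P)).obj
        Gc).ExactAt i := by
  obtain ⟨eP⟩ := heP
  obtain ⟨eG⟩ := hGc
  haveI := hG
  haveI : DCoh.HasLpull f := hasLpull f
  haveI : DCoh.HasLpull q := hasLpull q
  haveI : DCoh.HasLpull (f ≫ q) := hasLpull (f ≫ q)
  let K : CochainComplex Y.Modules ℤ :=
    ((Scheme.Modules.pullback q).mapHomologicalComplex (ComplexShape.up ℤ)).obj P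
  have hK : KFT K := ⟨isKFlat_pullback q P hP.1, fun j => isFlat_pullback q _ (hP.2 j)⟩
  haveI : DCoh.HasLTensorCx K := hasLTensorCx K
  let M' : CochainComplex X.Modules ℤ :=
    ((Scheme.Modules.pullback (f ≫ q)).mapHomologicalComplex (ComplexShape.up ℤ)).obj P
  haveI : DCoh.HasLTensorCx M' := hasLTensorCx M'
  have hGq : DCoh.IsQCohD (DCoh.inD S G) :=
    Groth.Agent.Lib.Helper5.RpushClassic.isQCohD_inD G
  let eK : DCoh.toD Y K ≅ (DCoh.Lpull q).obj (DCoh.inD S G) :=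
    (lpullObjIso q P hP).symm ≪≫ (DCoh.Lpull q).mapIso eP
  have hKq : DCoh.IsQCohD (DCoh.toD Y K) := isQCohD_of_iso eK.symm (isQCohD_Lpull q _ hGq)
  obtain ⟨ec⟩ := lpull_comp f q
  let eM : DCoh.toD X M' ≅ (DCoh.Lpull f).obj (DCoh.toD Y K) :=
    (lpullObjIso (f ≫ q) P hP).symm ≪≫ (ec.app (DCoh.toD S P)).symm ≪≫
      (DCoh.Lpull f).mapIso (lpullObjIso q P hP)
  obtain ⟨e2⟩ := Groth.Agent.Lib.Helper5.ProjF3.nonempty_projFormula_qcoh f (DCoh.toD X F) hFq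
    K hKq M' ⟨eM⟩
  have hLq : DCoh.IsQCohD ((DCoh.LTensorCx M').obj (DCoh.toD X F)) :=
    isQCohD_LTensorCx M' (isQCohD_of_iso eM.symm (isQCohD_Lpull f _ hKq)) _ hFq
  have hLz : ∀ j : ℤ, (j < m ∨ n < j) →
      IsZero (DCoh.HD ((DCoh.LTensorCx M').obj (DCoh.toD X F)) j) := fun j hj =>
    isZero_HD_ltensor_pull (f ≫ q) F m n htor P hP G eP j hj
  have hge : ((DCoh.LTensorCx M').obj (DCoh.toD X F)).IsGE m := by
    rw [DerivedCategory.isGE_iff]
    intro j hj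
    exact hLz j (Or.inl hj)
  have hle : ((DCoh.LTensorCx M').obj (DCoh.toD X F)).IsLE n := by
    rw [DerivedCategory.isLE_iff]
    intro j hj
    exact hLz j (Or.inr hj)
  have hz : IsZero (DCoh.HD ((DCoh.LTensorCx K).obj ((DCoh.Rpush f).obj (DCoh.toD X F))) i) := by
    refine IsZero.of_iso ?_ ((DerivedCategory.homologyFunctor Y.Modules i).mapIso e2)
    rcases hi with hi | hi
    · haveI := hge
      haveI := Groth.Agent.Lib.Helper5.RpushGE.rpush_isGE f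
        ((DCoh.LTensorCx M').obj (DCoh.toD X F)) m
      exact DerivedCategory.isZero_of_isGE _ m i hi
    · exact hB _ m n hge hle hLq i hi
  let e5 : (DCoh.LTensorCx K).obj ((DCoh.Rpush f).obj (DCoh.toD X F)) ≅
      DerivedCategory.Q.obj ((DCoh.tensorCx.obj K).obj Gc) :=
    (DCoh.LTensorCx K).mapIso eG.symm ≪≫
      Groth.Agent.Lib.Helper5.LTenDer.ltensorObjIso K hK.1 Gc ≪≫
      DerivedCategory.Q.mapIso (Groth.Agent.Lib.Helper5.ProjF2.braidCx Gc K)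
  have hz2 : IsZero ((DerivedCategory.homologyFunctor Y.Modules i).obj
      (DerivedCategory.Q.obj ((DCoh.tensorCx.obj K).obj Gc))) :=
    IsZero.of_iso hz ((DerivedCategory.homologyFunctor Y.Modules i).mapIso e5.symm)
  rw [HomologicalComplex.exactAt_iff_isZero_homology]
  exact IsZero.of_iso hz2
    ((DerivedCategory.homologyFunctorFactors Y.Modules i).app _).symm

/-- the case of an affine base `Spec R`, with an explicit bound -/
theorem hasTorAmplitudeAt_rpush_spec_of_bound (f : X ⟶ Y) [QuasiCompact f]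
    [QuasiSeparated f] [DCoh.HasRpush f] (B : ℤ) (hB : RpushBound f B) (R : CommRingCat.{u})
    (q : Y ⟶ Spec (CommRingCat.of R))
    (F : CochainComplex X.Modules ℤ) (hFq : DCoh.IsQCohD (DCoh.toD X F)) (m n : ℤ)
    (htor : DerSch.HasTorAmplitude (f ≫ q) m n F) (Gc : CochainComplex Y.Modules ℤ)
    (hGc : Nonempty (DCoh.toD Y Gc ≅ (DCoh.Rpush f).obj (DCoh.toD X F))) (y : Y) :
    DerSch.HasTorAmplitudeAt q m (B + n) Gc y := by
  apply hasTorAmplitudeAt_of_exact_tensor q Gc y m (B + n)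
  intro N₀
  let M : (Spec (CommRingCat.of R)).Modules :=
    (tilde.functor R).obj ((ModuleCat.restrictScalars (phi R (q.base y))).obj N₀)
  let G0 : CochainComplex (Spec (CommRingCat.of R)).Modules ℤ :=
    (HomologicalComplex.single _ (ComplexShape.up ℤ) 0).obj M
  obtain ⟨P, p, hP1, hP2, hp, _⟩ : ∃ (P : CochainComplex (Spec (CommRingCat.of R)).Modules ℤ)
      (p : P ⟶ G0), DCoh.IsKFlat P ∧
        (∀ n : ℤ, ModSite.IsFlat (O := (Spec (CommRingCat.of R)).sheaf) (P.X n)) ∧ QuasiIso p ∧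
        ∀ n : ℤ, Epi (p.f n) :=
    exists_isKFlat_resolution (O := (Spec (CommRingCat.of R)).sheaf) G0
  haveI : QuasiIso p := hp
  refine ⟨M, P, p, hP1, hp, ⟨stalkTildeRestrictIso R (q.base y) N₀⟩, fun i hi => ?_⟩
  let eP : DCoh.toD _ P ≅ DCoh.inD _ M := asIso (DerivedCategory.Q.map p) ≪≫ toDSingleIso M
  have hMq : M.IsQuasicoherent := inferInstance
  have h1 := tor_rel_of_bound f q B hB F hFq m n htor M hMq P ⟨hP1, hP2⟩ ⟨eP⟩ Gc hGc i hi
  exact Groth.Agent.Lib.Helper5.CohTen.exactAt_stalkCx _ i h1 y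

/-- the bound on modules restricts to the preimage of an open whose inclusion is quasi-compact -/
theorem hN_restrict (f : X ⟶ Y) [DCoh.HasRpush f] (V : Y.Opens)
    [QuasiCompact (f ⁻¹ᵁ V).ι] [DCoh.HasRpush (f ∣_ V)] (N : ℕ)
    (hN : ∀ M : X.Modules, Coh.IsQCoh M → ∀ i : ℤ, (N : ℤ) < i →
      IsZero (DCoh.HD ((DCoh.Rpush f).obj (DCoh.inD X M)) i))
    (M' : ((f ⁻¹ᵁ V : X.Opens) : Scheme.{u}).Modules) (hM' : Coh.IsQCoh M') (i : ℤ)
    (hi : (N : ℤ) < i) :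
    IsZero (DCoh.HD ((DCoh.Rpush (f ∣_ V)).obj (DCoh.inD _ M')) i) := by
  haveI : M'.IsQuasicoherent := hM'
  let j := (f ⁻¹ᵁ V).ι
  let M : X.Modules := (Scheme.Modules.pushforward j).obj M'
  have hM : M.IsQuasicoherent := Groth.Agent.Helper1.PushQc.isQuasicoherent_pushforward j M'
  have h0 := hN M hM i hi
  have h1 : IsZero (DCoh.HD ((DCoh.restrictD V.ι).obj
      ((DCoh.Rpush f).obj (DCoh.inD X M))) i) :=
    IsZero.of_iso (Functor.map_isZero (Scheme.Modules.restrictFunctor V.ι) h0)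
      (Groth.Agent.Lib.Helper5.RpushSupp.hdRestrictDIso _ V i).symm
  let e1 : (DCoh.restrictD j).obj (DCoh.inD X M) ≅ DCoh.inD _ M' :=
    ((Scheme.Modules.restrictFunctor j).mapDerivedCategorySingleFunctor 0).app M ≪≫
      (DerivedCategory.singleFunctor _ 0).mapIso
        ((Scheme.Modules.restrictFunctorAdjCounitIso j).app M')
  exact IsZero.of_iso h1 ((DerivedCategory.homologyFunctor _ i).mapIso
    ((DCoh.Rpush (f ∣_ V)).mapIso e1.symm ≪≫ ((rpushRestrictIso f V).app (DCoh.inD X M)).symm))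

/-- **local form over affine opens, with an explicit bound** -/
theorem torAmp_rpush_local_of_hN (f : X ⟶ Y) (q : Y ⟶ S) [QuasiCompact f]
    [QuasiSeparated f] [DCoh.HasRpush f] (N : ℕ)
    (hN : ∀ M : X.Modules, Coh.IsQCoh M → ∀ i : ℤ, (N : ℤ) < i →
      IsZero (DCoh.HD ((DCoh.Rpush f).obj (DCoh.inD X M)) i))
    (V : Y.Opens) (hV : IsAffineOpen V) [QuasiCompact (f ⁻¹ᵁ V).ι] (W : S.Opens)
    (hW : IsAffineOpen W) (hVW : V ≤ q ⁻¹ᵁ W)
    (F : CochainComplex X.Modules ℤ) (hFq : DCoh.IsQCohD (DCoh.toD X F)) (a b : ℤ)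
    (hF : ∀ x : X, x ∈ f ⁻¹ᵁ V → DerSch.HasTorAmplitudeAt (f ≫ q) a b F x)
    (Gc : CochainComplex Y.Modules ℤ)
    (hGc : Nonempty (DCoh.toD Y Gc ≅ (DCoh.Rpush f).obj (DCoh.toD X F)))
    (y : Y) (hy : y ∈ V) : DerSch.HasTorAmplitudeAt q a (N + b) Gc y := by
  obtain ⟨eG⟩ := hGc
  haveI : IsAffine (V : Scheme.{u}) := hV
  haveI : DCoh.HasRpush (f ∣_ V) := hasRightDerivedFunctor (DCoh.pushKh (f ∣_ V))
  let qV : (V : Scheme.{u}) ⟶ (W : Scheme.{u}) := q.resLE W V hVW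
  let q' : (V : Scheme.{u}) ⟶ Spec (CommRingCat.of Γ(S, W)) := qV ≫ hW.isoSpec.hom
  let j : Spec (CommRingCat.of Γ(S, W)) ⟶ S := hW.isoSpec.inv ≫ W.ι
  haveI : IsOpenImmersion j := by dsimp only [j]; infer_instance
  have key2 : q' ≫ j = V.ι ≫ q := by
    dsimp only [q', j, qV]
    rw [Category.assoc, Iso.hom_inv_id_assoc, Scheme.Hom.resLE_comp_ι]
  have key : (f ⁻¹ᵁ V).ι ≫ f ≫ q = ((f ∣_ V) ≫ q') ≫ j := by
    have h := morphismRestrict_ι f V
    calc (f ⁻¹ᵁ V).ι ≫ f ≫ q = ((f ⁻¹ᵁ V).ι ≫ f) ≫ q := (Category.assoc _ _ _).symm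
      _ = ((f ∣_ V) ≫ V.ι) ≫ q := by rw [h]
      _ = (f ∣_ V) ≫ (q' ≫ j) := by rw [Category.assoc, key2]
      _ = ((f ∣_ V) ≫ q') ≫ j := (Category.assoc _ _ _).symm
  have hB : RpushBound (f ∣_ V) N :=
    rpushBound_of_hN (f ∣_ V) N (fun M' hM' i hi => hN_restrict f V N hN M' hM' i hi)
  let FU : CochainComplex ((f ⁻¹ᵁ V : X.Opens) : Scheme.{u}).Modules ℤ := (RCx (f ⁻¹ᵁ V).ι).obj F
  let e0 : (DCoh.restrictD (f ⁻¹ᵁ V).ι).obj (DCoh.toD X F) ≅ DCoh.toD _ FU :=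
    (Scheme.Modules.restrictFunctor (f ⁻¹ᵁ V).ι).mapDerivedCategoryFactors.app F
  have hFUq : DCoh.IsQCohD (DCoh.toD _ FU) :=
    isQCohD_of_iso e0 (Groth.Agent.Lib.Helper5.HomVanish.isQCohD_restrictJ (f ⁻¹ᵁ V).ι _ hFq)
  have htor : DerSch.HasTorAmplitude ((f ∣_ V) ≫ q') a b FU := by
    intro x'
    have h1 := hasTorAmplitudeAt_rcx (f ≫ q) (f ⁻¹ᵁ V).ι x' F a b (hF _ x'.2)
    rw [key] at h1
    exact hasTorAmplitudeAt_of_comp_openImmersion ((f ∣_ V) ≫ q') j x' FU a b h1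
  let GV : CochainComplex (V : Scheme.{u}).Modules ℤ := (RCx V.ι).obj Gc
  let e1 : (DCoh.restrictD V.ι).obj (DCoh.toD Y Gc) ≅ DCoh.toD _ GV :=
    (Scheme.Modules.restrictFunctor V.ι).mapDerivedCategoryFactors.app Gc
  let eGV : DCoh.toD _ GV ≅ (DCoh.Rpush (f ∣_ V)).obj (DCoh.toD _ FU) :=
    e1.symm ≪≫ (DCoh.restrictD V.ι).mapIso eG ≪≫ (rpushRestrictIso f V).app (DCoh.toD X F) ≪≫
      (DCoh.Rpush (f ∣_ V)).mapIso e0
  have h2 := hasTorAmplitudeAt_rpush_spec_of_bound (f ∣_ V) N hB Γ(S, W) q' FU hFUq a b htor GV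
    ⟨eGV⟩ ⟨y, hy⟩
  have h3 := hasTorAmplitudeAt_comp_openImmersion q' j ⟨y, hy⟩ GV a (N + b) h2
  rw [key2] at h3
  exact hasTorAmplitudeAt_of_rcx q V.ι ⟨y, hy⟩ Gc a (N + b) h3

/-- **global form**: when every open immersion into `X` is quasi-compact (for instance `X` locally
Noetherian) -/
theorem hasTorAmplitudeD_rpush_of_hN (p : X ⟶ S) (q : Y ⟶ S) (f : X ⟶ Y) (w : f ≫ q = p)
    [QuasiCompact f] [QuasiSeparated f] [DCoh.HasRpush f]
    (hqc : ∀ U : X.Opens, QuasiCompact U.ι) (N : ℕ)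
    (hN : ∀ M : X.Modules, Coh.IsQCoh M → ∀ i : ℤ, (N : ℤ) < i →
      IsZero (DCoh.HD ((DCoh.Rpush f).obj (DCoh.inD X M)) i))
    (F : CochainComplex X.Modules ℤ) (hFq : DCoh.IsQCohD (DCoh.toD X F)) (a b : ℤ)
    (hF : DerSch.HasTorAmplitude p a b F) :
    DerSch.HasTorAmplitudeD q a (b + N) ((DCoh.Rpush f).obj (DCoh.toD X F)) := by
  intro Gc hGc y
  obtain ⟨W, hW, hyW, -⟩ := TopologicalSpace.Opens.isBasis_iff_nbhd.mp S.isBasis_affineOpens
    (TopologicalSpace.Opens.mem_top (q.base y))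
  obtain ⟨V, hV, hyV, hVW⟩ := TopologicalSpace.Opens.isBasis_iff_nbhd.mp Y.isBasis_affineOpens
    (show y ∈ q ⁻¹ᵁ W from hyW)
  haveI := hqc (f ⁻¹ᵁ V)
  have h := torAmp_rpush_local_of_hN f q N hN V hV W hW hVW F hFq a b
    (fun x _ => by rw [w]; exact hF x) Gc hGc y hyV
  rw [add_comm] at h
  exact h

end Groth.Agent.Lib.Helper5.RpushTor
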