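import Mathlib
import Groth.Agent.Lib.Helper5.RpushTor.Core
import Groth.Agent.Lib.Helper5.KSix.TorComp
import Groth.Agent.Lib.Helper5.SmTor.CxGeo
import Groth.Agent.Lib.Helper5.RpushPerf.PerfMorTor

/-!
# `Rf_*` and locally finite tor amplitude (helper5)
-/
set_option autoImplicit false
set_option linter.unusedSectionVars false
set_option linter.unusedVariables false
set_option linter.style.haveILetI false
universe u
open CategoryTheory CategoryTheory.Limits AlgebraicGeometry TopologicalSpace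
attribute [local instance] HasDerivedCategory.standard

namespace Groth.Agent.Lib.Helper5.RpushTor

open Groth.Agent.Helper5.TorAmp Groth.Agent.Lib.Helper5.DerSchTor
open Groth.Agent.Lib.Helper5.StalkTot Groth.Agent.Lib.Helper5.StalkAdj
open Groth.Agent.Lib.Helper5.PerfIff Groth.Agent.Lib.Helper5.SmTor
open Groth.Agent.Lib.Helper5.KSixTor Groth.Agent.Lib.Helper5.RpushPerf Groth.Agent.Lib.Helper5.PerfMorTor

section Ring

variable {R : Type u} [CommRing R]

/-- a module in degree `0` of tor amplitude in `[c, d]` has tor amplitude in `[-n, 0]` as soon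
as `-n ≤ c` -/
theorem hasTorAmplitudeIn_inD_le_zero (B : Type u) [AddCommGroup B] [Module R B] (c d : ℤ)
    (n : ℕ) (hn : -(n : ℤ) ≤ c) (h : DRing.HasTorAmplitudeIn R c d (Dual.inD R B)) :
    DRing.HasTorAmplitudeIn R (-(n : ℤ)) 0 (Dual.inD R B) := by
  haveI : (Dual.inD R B).IsLE 0 := by
    dsimp only [Dual.inD]
    infer_instance
  obtain ⟨P, hPc, hproj, hK, ⟨e⟩⟩ := exists_proj_rep (Dual.inD R B) 0
  have hflat := termwiseFlat_of_projective P hproj
  rw [hasTorAmplitudeIn_iff' P hflat 0 hPc e] at h ⊢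
  intro M i hi
  rcases hi with hi | hi
  · exact h M i (Or.inl (by omega))
  · apply HomologicalComplex.ExactAt.of_isZero
    exact Functor.map_isZero (MonoidalCategory.tensorRight M) (hPc i hi)

end Ring

variable {X Y S : Scheme.{u}}

/-- pointwise form of `hasTorAmplitude_comp` -/
theorem hasTorAmplitudeAt_comp {Z : Scheme.{u}} (f : X ⟶ Y) (g : Y ⟶ Z) (n : ℕ) (x : X)
    (hg : DerSch.HasTorAmplitudeAt g (-(n : ℤ)) 0 (DerSch.unitCx Y) (f.base x))
    (F : CochainComplex X.Modules ℤ) (a b : ℤ) (hF : DerSch.HasTorAmplitudeAt f a b F x) :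
    DerSch.HasTorAmplitudeAt (f ≫ g) (a - n) b F x := by
  let _ : Algebra (Z.presheaf.stalk (g.base (f.base x))) (Y.presheaf.stalk (f.base x)) :=
    (g.stalkMap (f.base x)).hom.toAlgebra
  have hB := hasTorAmplitudeIn_of_iso (stalkUnitCxIso g (f.base x)) hg
  have h1 := Groth.Agent.Helper5.TorRes.s6947 n hB _ a b hF
  let R := ModuleCat.restrictScalars.{u} (g.stalkMap (f.base x)).hom
  have e1 : (DRing.restrictD (algebraMap (Z.presheaf.stalk (g.base (f.base x)))
      (Y.presheaf.stalk (f.base x)))).obj (DRing.toD ((DerSch.stalkCxOver f x).obj F)) ≅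
      DRing.toD ((R.mapHomologicalComplex (ComplexShape.up ℤ)).obj ((DerSch.stalkCxOver f x).obj F)) :=
    R.mapDerivedCategoryFactors.app _
  have e2 : DerSch.stalkOver f x ⋙ R ≅ DerSch.stalkOver (f ≫ g) x :=
    Functor.associator _ _ _ ≪≫ Functor.isoWhiskerLeft (DerSch.stalkFunctor X x)
      (ModuleCat.restrictScalarsComp' (g.stalkMap (f.base x)).hom (f.stalkMap x).hom
        ((f ≫ g).stalkMap x).hom (by rw [Scheme.Hom.stalkMap_comp]; rfl)).symm
  have e3 : (R.mapHomologicalComplex (ComplexShape.up ℤ)).obj ((DerSch.stalkCxOver f x).obj F) ≅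
      (DerSch.stalkCxOver (f ≫ g) x).obj F :=
    HomologicalComplex.Hom.isoOfComponents (fun i => e2.app (F.X i))
      (fun i j _ => (e2.hom.naturality (F.d i j)).symm)
  exact hasTorAmplitudeIn_of_iso (e1 ≪≫ DerivedCategory.Q.mapIso e3) h1

/-- the structure sheaf: amplitude `[c, d]` gives amplitude `[-n, 0]` for `-n ≤ c` -/
theorem hasTorAmplitudeAt_unitCx_le_zero (g : X ⟶ Y) (x : X) (c d : ℤ) (n : ℕ)
    (hn : -(n : ℤ) ≤ c) (h : DerSch.HasTorAmplitudeAt g c d (DerSch.unitCx X) x) :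
    DerSch.HasTorAmplitudeAt g (-(n : ℤ)) 0 (DerSch.unitCx X) x := by
  let _ : Algebra (Y.presheaf.stalk (g.base x)) (X.presheaf.stalk x) :=
    (g.stalkMap x).hom.toAlgebra
  have h1 := hasTorAmplitudeIn_of_iso (stalkUnitCxIso g x) h
  have h2 := hasTorAmplitudeIn_inD_le_zero (X.presheaf.stalk x) c d n hn h1
  exact hasTorAmplitudeIn_of_iso (stalkUnitCxIso g x).symm h2

/-- **S6198**: `Rf_*` preserves locally finite tor amplitude relative to a base -/
theorem locFiniteTorAmplitudeD_rpush (p : X ⟶ S) (q : Y ⟶ S) (f : X ⟶ Y) (w : f ≫ q = p)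
    [QuasiCompact f] [QuasiSeparated f] [DCoh.HasRpush f] (F : CochainComplex X.Modules ℤ)
    (hqc : DCoh.IsQCohD (DCoh.toD X F)) (hF : DerSch.LocFiniteTorAmplitude p F) :
    DerSch.LocFiniteTorAmplitudeD q ((DCoh.Rpush f).obj (DCoh.toD X F)) := by
  intro Gc hGc y
  obtain ⟨W, hW, hyW, -⟩ := Opens.isBasis_iff_nbhd.mp S.isBasis_affineOpens
    (Opens.mem_top (q.base y))
  obtain ⟨V, hV, hyV, hVW⟩ := Opens.isBasis_iff_nbhd.mp Y.isBasis_affineOpens
    (show y ∈ q ⁻¹ᵁ W from hyW)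
  have hcpt : IsCompact ((f ⁻¹ᵁ V : X.Opens) : Set X) :=
    QuasiCompact.isCompact_preimage (f := f) V.1 V.2 hV.isCompact
  obtain ⟨a, b, hab⟩ : ∃ a b : ℤ, ∀ x ∈ ((f ⁻¹ᵁ V : X.Opens) : Set X),
      DerSch.HasTorAmplitudeAt p a b F x := by
    refine IsCompact.induction_on (p := fun s : Set X => ∃ a b : ℤ, ∀ x ∈ s,
      DerSch.HasTorAmplitudeAt p a b F x) hcpt ⟨0, 0, fun x hx => hx.elim⟩ ?_ ?_ ?_
    · rintro s t hst ⟨a, b, h⟩
      exact ⟨a, b, fun x hx => h x (hst hx)⟩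
    · rintro s t ⟨a, b, h⟩ ⟨a', b', h'⟩
      refine ⟨min a a', max b b', fun x hx => ?_⟩
      rcases hx with hx | hx
      · exact hasTorAmplitudeAt_mono p x F (h x hx) (min_le_left _ _) (le_max_left _ _)
      · exact hasTorAmplitudeAt_mono p x F (h' x hx) (min_le_right _ _) (le_max_right _ _)
    · intro x hx
      obtain ⟨Vx, a, b, hxV, hV'⟩ := hF x
      exact ⟨(Vx : Set X), mem_nhdsWithin_of_mem_nhds (Vx.2.mem_nhds hxV),
        a, b, fun x' hx' => hV' x' hx'⟩
  obtain ⟨N, hN⟩ := exists_torAmp_rpush_local f q V hV W hW hVW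
  refine ⟨V, a, N + b - 1, hyV, fun y' hy' => ?_⟩
  exact hN F hqc a b (fun x hx => by rw [w]; exact hab x hx) Gc hGc y' hy'

/-- **S6193**: `Rf_*` preserves locally finite tor dimension, for `f` locally of finite tor
dimension -/
theorem locHasFiniteTorDim_rpush (f : X ⟶ Y) [QuasiCompact f] [QuasiSeparated f]
    [DCoh.HasRpush f] (hf : DerSch.LocFiniteTorDim f) (F : CochainComplex X.Modules ℤ)
    (hqc : DCoh.IsQCohD (DCoh.toD X F)) (hE : DCoh.LocHasFiniteTorDim (DCoh.toD X F)) :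
    DCoh.LocHasFiniteTorDim ((DCoh.Rpush f).obj (DCoh.toD X F)) := by
  have hrel : DerSch.LocFiniteTorAmplitude f F := by
    intro x
    obtain ⟨V₁, a, b, hx1, h1⟩ := (locHasFiniteTorDim_iff _).1 hE x
    have h1' := (hasFlatAmplitudeIn_restrict_iff_stalks F V₁ a b).1 h1
    obtain ⟨V₂, c, d, hx2, h2⟩ := hf x
    refine ⟨V₁ ⊓ V₂, a - ((-c).toNat : ℕ), b, ⟨hx1, hx2⟩, fun x' hx' => ?_⟩
    have h3 := hasTorAmplitudeAt_unitCx_le_zero f x' c d (-c).toNat (by omega) (h2 x' hx'.2)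
    have h4 := hasTorAmplitudeAt_comp (𝟙 X) f (-c).toNat x' h3 F a b (h1' x' hx'.1)
    rw [Category.id_comp] at h4
    exact h4
  have h5 := locFiniteTorAmplitudeD_rpush f (𝟙 Y) f (Category.comp_id f) F hqc hrel
  rw [locHasFiniteTorDim_iff]
  intro y
  let Gc : CochainComplex Y.Modules ℤ :=
    DerivedCategory.Q.objPreimage ((DCoh.Rpush f).obj (DCoh.toD X F))
  let e : DCoh.toD Y Gc ≅ (DCoh.Rpush f).obj (DCoh.toD X F) :=
    DerivedCategory.Q.objObjPreimageIso _
  obtain ⟨V, a, b, hyV, hV⟩ := h5 Gc ⟨e⟩ y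
  refine ⟨V, a, b, hyV, ?_⟩
  exact hasFlatAmplitudeIn_of_iso ((DCoh.restrictD V.ι).mapIso e)
    ((hasFlatAmplitudeIn_restrict_iff_stalks Gc V a b).2 hV)

end Groth.Agent.Lib.Helper5.RpushTor
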