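import Mathlib
import Groth.Agent.Lib.Helper5.RpushTor.Main
import Groth.Agent.Lib.Helper5.ProperPush.Main
import Groth.Agent.Lib.Helper5.RelPC.RelPCQC
import Groth.Agent.Lib.Helper5.RelPC.BCGeo

/-!
# Proper push-forward preserves relative perfection over a locally Noetherian base (helper5)
-/
set_option autoImplicit false
set_option linter.unusedSectionVars false
set_option linter.unusedVariables false
set_option linter.style.haveILetI false
universe u
open CategoryTheory CategoryTheory.Limits AlgebraicGeometry TopologicalSpace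
attribute [local instance] HasDerivedCategory.standard

namespace Groth.Agent.Lib.Helper5.RpushTor

variable {X Y S : Scheme.{u}}

/-- relatively pseudo-coherent (for all `m`) objects have quasi-coherent cohomology -/
theorem isQCohD_of_isPseudoCoherentRelAll (p : X ⟶ S) (E : DCoh.D X)
    (hE : DerSch.IsPseudoCoherentRelAll p E) : DCoh.IsQCohD E := fun i =>
  Groth.Agent.Lib.Helper5.RelPCQC.isQCoh_HD_of_isPseudoCoherentRel p (i - 1) E (hE (i - 1)) i
    (by omega)

/-- **S6223** -/
theorem isPerfectRel_rpush [IsLocallyNoetherian S] (p : X ⟶ S) (q : Y ⟶ S)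
    [LocallyOfFiniteType p] [LocallyOfFiniteType q] (f : X ⟶ Y) [IsProper f] (w : f ≫ q = p)
    [DCoh.HasRpush f] (F : CochainComplex X.Modules ℤ) (a : ℤ) [(DCoh.toD X F).IsGE a]
    (hF : DerSch.IsPerfectRel p F) :
    ∀ F' : CochainComplex Y.Modules ℤ,
      Nonempty (DCoh.toD Y F' ≅ (DCoh.Rpush f).obj (DCoh.toD X F)) →
      DerSch.IsPerfectRel q F' := by
  intro F' hF'
  have hqc : DCoh.IsQCohD (DCoh.toD X F) := isQCohD_of_isPseudoCoherentRelAll p _ hF.1
  refine ⟨?_, locFiniteTorAmplitudeD_rpush p q f w F hqc hF.2 F' hF'⟩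
  obtain ⟨e⟩ := hF'
  have h := Groth.Agent.Lib.Helper5.ProperPush.isPseudoCoherentRelAll_rpush f p q w
    (DCoh.toD X F) a hF.1
  intro m
  exact Groth.Agent.Lib.Helper5.BCGeo.isPseudoCoherentRel_of_iso q e.symm m (h m)

end Groth.Agent.Lib.Helper5.RpushTor
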