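import Mathlib
import Groth.Agent.Lib.Helper5.RpushTor.PerfRel
import Groth.Agent.Lib.Helper5.RpushTor.BoundN

/-!
# Proper push-forward and relative perfect amplitude over a Noetherian base (helper5)
-/
set_option autoImplicit false
set_option linter.unusedSectionVars false
set_option linter.unusedVariables false
set_option linter.style.haveILetI false
universe u
open CategoryTheory CategoryTheory.Limits AlgebraicGeometry TopologicalSpace
attribute [local instance] HasDerivedCategory.standard

namespace Groth.Agent.Lib.Helper5.RpushTor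

variable {X Y S : Scheme.{u}}

/-- **S6224** -/
theorem hasPerfAmplitudeRel_rpush_of_hN [IsLocallyNoetherian S] (p : X ⟶ S) (q : Y ⟶ S)
    [LocallyOfFiniteType p] [LocallyOfFiniteType q] (f : X ⟶ Y) [IsProper f] (w : f ≫ q = p)
    [DCoh.HasRpush f] (N : ℕ)
    (hN : ∀ M : X.Modules, Coh.IsQCoh M → ∀ i : ℤ, (N : ℤ) < i →
      IsZero (DCoh.HD ((DCoh.Rpush f).obj (DCoh.inD X M)) i))
    (F : CochainComplex X.Modules ℤ) (c : ℤ) [(DCoh.toD X F).IsGE c]
    (a b : ℤ) (hF : DerSch.HasPerfAmplitudeRel p a b F) :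
    ∀ F' : CochainComplex Y.Modules ℤ,
      Nonempty (DCoh.toD Y F' ≅ (DCoh.Rpush f).obj (DCoh.toD X F)) →
      DerSch.HasPerfAmplitudeRel q a (b + N) F' := by
  intro F' hF'
  haveI : IsLocallyNoetherian X := LocallyOfFiniteType.isLocallyNoetherian p
  have hqc : DCoh.IsQCohD (DCoh.toD X F) := isQCohD_of_isPseudoCoherentRelAll p _ hF.1
  refine ⟨?_, hasTorAmplitudeD_rpush_of_hN p q f w (fun U => inferInstance) N hN F hqc a b hF.2
    F' hF'⟩
  obtain ⟨e⟩ := hF'
  have h := Groth.Agent.Lib.Helper5.ProperPush.isPseudoCoherentRelAll_rpush f p q w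
    (DCoh.toD X F) c hF.1
  intro m
  exact Groth.Agent.Lib.Helper5.BCGeo.isPseudoCoherentRel_of_iso q e.symm m (h m)

end Groth.Agent.Lib.Helper5.RpushTor
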